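import Groth.Agent.Lib.FormalCd7.Torsion
import Groth.Agent.Lib.FormalFun.HomComplete
import Groth.Prelude.Def_Wider

import Mathlib.Data.Fin.Tuple.NatAntidiagonal
import Mathlib.RingTheory.MvPolynomial.Homogeneous

/-!
# A graded polynomial-valued map on multiples of a power of the ideal in a formal limit
-/

set_option autoImplicit false
set_option linter.style.haveILetI false
universe u

open CategoryTheory CategoryTheory.Limits AlgebraicGeometry Opposite

noncomputable section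

attribute [local instance] CategoryTheory.Abelian.hasFiniteBiproducts

namespace GrothLib.FormalPoly7

open GrothLib.FormalSys GrothLib.FormalFun GrothLib.QCoh GrothLib.FormalCd7

variable {A : Type u} [CommRing A] {X : Scheme.{u}} [X.Over (Spec (CommRingCat.of A))]

theorem smul_stalk_mem {J : Ideal A} {M : X.Modules} (y : X) (a : A) {v : M.presheaf.stalk y}
    (hv : v ∈ (J.map (toStalk A y)) • (⊤ : Submodule (X.presheaf.stalk y) (M.presheaf.stalk y))) :
    toStalk A y a • v ∈ (J.map (toStalk A y)) • (⊤ : Submodule (X.presheaf.stalk y) (M.presheaf.stalk y)) :=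
  Submodule.smul_mem _ _ hv

/-- In a coherent formal module, a stalk element in a fixed power of `I` killed by any power of `I`
vanishes in deeper-level images. -/
theorem exists_power_bound [IsNoetherian X] {I : Ideal A} {G : ℕᵒᵖ ⥤ X.Modules} (hG : Formal.IsCohFormal I G) :
    ∃ b : ℕ, 1 ≤ b ∧ ∀ m k : ℕ, ∃ (n : ℕ) (h : k ≤ n), ∀ (y : X) (v : (G.obj (op n)).presheaf.stalk y),
      v ∈ ((I ^ b).map (toStalk A y)) • (⊤ : Submodule (X.presheaf.stalk y) ((G.obj (op n)).presheaf.stalk y)) →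
      (∀ a ∈ I ^ m, toStalk A y a • v = 0) → stalkLin (trans G h) y v = 0 := by
  obtain ⟨d, hd⟩ := exists_stalk_bound hG
  refine ⟨d + 1, by omega, fun m => ?_⟩
  induction m using Nat.strong_induction_on with
  | _ m ih =>
    intro k
    by_cases hm : m ≤ d + 1
    · refine ⟨k + (d + 1), Nat.le_add_right _ _, fun y v hv hv0 =>
        hd (d + 1) _ k _ (Nat.le_succ d) le_rfl y v hv fun a ha => hv0 a (Ideal.pow_le_pow_right hm ha)⟩
    · obtain ⟨n, hn, hn'⟩ := ih (m - (d + 1)) (by omega) k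
      refine ⟨n + (d + 1), hn.trans (Nat.le_add_right _ _), fun y v hv hv0 => ?_⟩
      have hle : n ≤ n + (d + 1) := Nat.le_add_right _ _
      rw [← trans_comp G hn hle, stalkLin_comp]
      refine hn' y _ ?_ fun a ha => ?_
      · refine Submodule.smul_induction_on hv (fun r hr w _ => ?_) fun x z hx hz => ?_
        · rw [map_smul]
          exact Submodule.smul_mem_smul hr Submodule.mem_top
        · rw [map_add]
          exact add_mem hx hz
      · rw [← map_smul]
        refine hd (d + 1) _ n hle (Nat.le_succ d) le_rfl y _ (smul_stalk_mem y a hv) fun a' ha' => ?_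
        rw [smul_smul, ← map_mul]
        refine hv0 _ ?_
        rw [show m = (d + 1) + (m - (d + 1)) by omega, pow_add]
        exact Ideal.mul_mem_mul ha' ha

/-- A morphism into the limit landing in a fixed power of `I` and killed by some power of `I` is zero. -/
theorem exists_hom_bound [IsNoetherian X] {I : Ideal A} {G : ℕᵒᵖ ⥤ X.Modules} (hG : Formal.IsCohFormal I G) :
    ∃ b : ℕ, 1 ≤ b ∧ ∀ {K : X.Modules} (δ : K ⟶ limit G) (m : ℕ),
      δ ≫ Formal.modPowπ I b (limit G) = 0 → (∀ a ∈ I ^ m, δ ≫ Formal.smulMod A (limit G) a = 0) → δ = 0 := by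
  obtain ⟨b, hb, hbound⟩ := exists_power_bound hG
  refine ⟨b, hb, fun {K} δ m h1 h2 => limit.hom_ext fun j => ?_⟩
  obtain ⟨n, hn, hv⟩ := hbound m j.unop
  rw [zero_comp, show limit.π G j = limit.π G (op n) ≫ trans G hn from (limit.w G (homOfLE hn).op).symm,
    ← Category.assoc]
  refine hom_ext_stalkLin fun y w => ?_
  rw [stalkLin_comp, stalkLin_zero]
  refine hv y _ ?_ fun a ha => ?_
  · obtain ⟨ψ, hψ⟩ := (IsQuot.modPowπ I b (limit G)).exists_desc'
      (limit.π G (op n) ≫ Formal.modPowπ I b (G.obj (op n))) (killedBy_modPow b _)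
    have h3 : (δ ≫ limit.π G (op n)) ≫ Formal.modPowπ I b (G.obj (op n)) = 0 := by
      rw [Category.assoc, ← hψ, reassoc_of% h1, zero_comp]
    rw [← ker_stalkLin_of_isQuot (IsQuot.modPowπ I b (G.obj (op n))) y, LinearMap.mem_ker, ← stalkLin_comp, h3,
      stalkLin_zero]
  · have h3 : (δ ≫ limit.π G (op n)) ≫ Formal.smulMod A (G.obj (op n)) a = 0 := by
      rw [Category.assoc, ← smulMod_naturality, reassoc_of% (h2 a ha), zero_comp]
    rw [← stalkLin_smulMod, ← stalkLin_comp, h3, stalkLin_zero]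

section Algebra

open MvPolynomial

variable {r : ℕ} {f : Fin r → A} {I : Ideal A} {c b : ℕ} (φ : Fin r → (↥(I ^ c) →ₗ[A] A))

theorem coeff_lin_mem (j : Fin r) {h : A} (hh : h ∈ I ^ (b + c)) :
    φ j ⟨h, Ideal.pow_le_pow_right (Nat.le_add_left c b) hh⟩ ∈ I ^ b := by
  have key : ∀ x ∈ I ^ b * I ^ c, ∃ hx : x ∈ I ^ c, φ j ⟨x, hx⟩ ∈ I ^ b := by
    intro x hx
    refine Submodule.mul_induction_on hx (fun a ha z hz => ⟨Ideal.mul_mem_left _ a hz, ?_⟩) ?_
    · rw [show (⟨a * z, _⟩ : ↥(I ^ c)) = a • ⟨z, hz⟩ from rfl, map_smul, smul_eq_mul]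
      exact Ideal.mul_mem_right _ _ ha
    · rintro x y ⟨hx, hx'⟩ ⟨hy, hy'⟩
      refine ⟨add_mem hx hy, ?_⟩
      rw [show (⟨x + y, _⟩ : ↥(I ^ c)) = ⟨x, hx⟩ + ⟨y, hy⟩ from rfl, map_add]
      exact add_mem hx' hy'
  rw [pow_add] at hh
  exact (key h hh).2

/-- Coefficients and evaluation of the graded map. -/
theorem graded_mem_and_eval (hφ : ∀ x : ↥(I ^ c), (x : A) = ∑ j, f j * φ j x) (Φ : ℕ → A → MvPolynomial (Fin r) A)
    (hadd : ∀ n : ℕ, ∀ g ∈ I ^ (n * (b + c)), ∀ h ∈ I ^ (n * (b + c)), Φ n (g + h) = Φ n g + Φ n h)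
    (hmul : ∀ n m : ℕ, ∀ g ∈ I ^ (n * (b + c)), ∀ h ∈ I ^ (m * (b + c)), Φ (n + m) (g * h) = Φ n g * Φ m h)
    (h0 : ∀ a : A, Φ 0 a = C a)
    (h1 : ∀ (g : A) (hg : g ∈ I ^ (b + c)),
      Φ 1 g = ∑ j, C (φ j ⟨g, Ideal.pow_le_pow_right (Nat.le_add_left c b) hg⟩) * MvPolynomial.X j) :
    ∀ (n : ℕ) (g : A), g ∈ I ^ (n * (b + c)) →
      Φ n g ∈ (I ^ (n * b)).map (C : A →+* MvPolynomial (Fin r) A) ∧ eval f (Φ n g) = g := by
  intro n
  induction n with
  | zero =>
    intro g _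
    rw [h0, Nat.zero_mul, pow_zero, Ideal.one_eq_top, Ideal.map_top]
    exact ⟨trivial, eval_C _⟩
  | succ n ih =>
    intro g hg
    rw [Nat.succ_mul, pow_add] at hg
    refine (Submodule.mul_induction_on (C := fun g => g ∈ I ^ ((n + 1) * (b + c)) ∧
      Φ (n + 1) g ∈ (I ^ ((n + 1) * b)).map C ∧ eval f (Φ (n + 1) g) = g) hg (fun x hx y hy => ?_)
        fun x y hx hy => ?_).2
    · have hy1 : y ∈ I ^ (1 * (b + c)) := by rwa [one_mul]
      refine ⟨by rw [Nat.succ_mul, pow_add]; exact Ideal.mul_mem_mul hx hy, ?_⟩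
      rw [hmul n 1 x hx y hy1]
      refine ⟨?_, ?_⟩
      · rw [Nat.succ_mul, pow_add, Ideal.map_mul]
        refine Ideal.mul_mem_mul (ih x hx).1 ?_
        rw [h1 y hy]
        exact Ideal.sum_mem _ fun j _ => Ideal.mul_mem_right _ _
          (Ideal.mem_map_of_mem _ (coeff_lin_mem φ j hy))
      · rw [map_mul, (ih x hx).2, h1 y hy, map_sum]
        simp only [map_mul, eval_C, eval_X]
        conv_rhs => rw [show y = _ from hφ ⟨y, Ideal.pow_le_pow_right (Nat.le_add_left c b) hy⟩]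
        exact congrArg (x * ·) (Finset.sum_congr rfl fun j _ => mul_comm _ _)
    · refine ⟨add_mem hx.1 hy.1, ?_⟩
      rw [hadd (n + 1) x hx.1 y hy.1]
      exact ⟨add_mem hx.2.1 hy.2.1, by rw [map_add, hx.2.2, hy.2.2]⟩

theorem sum_antidiagonalTuple_eq_eval {n : ℕ} {p : MvPolynomial (Fin r) A} (hp : p.IsHomogeneous n) :
    ∑ e : ↥(Finset.Nat.antidiagonalTuple r n),
      (∏ j, f j ^ (e.1 j)) * coeff (Finsupp.equivFunOnFinite.symm e.1) p = eval f p := by
  rw [Finset.sum_coe_sort (Finset.Nat.antidiagonalTuple r n)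
    (fun e => (∏ j, f j ^ (e j)) * coeff (Finsupp.equivFunOnFinite.symm e) p), eval_eq']
  symm
  refine Eq.trans (Finset.sum_subset (s₂ := (Finset.Nat.antidiagonalTuple r n).map
    (Finsupp.equivFunOnFinite (α := Fin r) (M := ℕ)).symm.toEmbedding) (fun d hd => ?_) fun d _ hd => ?_) ?_
  · refine Finset.mem_map.2 ⟨fun j => d j, ?_, Finsupp.equivFunOnFinite.symm_apply_apply d⟩
    rw [Finset.Nat.mem_antidiagonalTuple]
    have := hp (mem_support_iff.1 hd)
    simp only [Finsupp.weight_apply, Pi.one_apply, smul_eq_mul, mul_one] at this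
    rw [← this, Finsupp.sum_fintype _ _ fun _ => rfl]
  · rw [notMem_support_iff.1 hd, zero_mul]
  · rw [Finset.sum_map]
    exact Finset.sum_congr rfl fun e _ => mul_comm _ _

end Algebra

theorem exists_graded_map [IsNoetherian X] {r : ℕ} (f : Fin r → A) (I : Ideal A) (c : ℕ)
    (φ : Fin r → (↥(I ^ c) →ₗ[A] A)) (hφ : ∀ x : ↥(I ^ c), (x : A) = ∑ j, f j * φ j x)
    (G : ℕᵒᵖ ⥤ X.Modules) (hG : Formal.IsCohFormal I G) :
    ∃ b : ℕ, ∀ Φ : ℕ → A → MvPolynomial (Fin r) A,
      ((∀ n : ℕ, ∀ g ∈ I ^ (n * (b + c)), ∀ h ∈ I ^ (n * (b + c)), Φ n (g + h) = Φ n g + Φ n h) ∧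
        (∀ (n : ℕ) (a : A), ∀ g ∈ I ^ (n * (b + c)), Φ n (a * g) = a • Φ n g) ∧
        (∀ n : ℕ, ∀ g ∈ I ^ (n * (b + c)), (Φ n g).IsHomogeneous n) ∧
        (∀ n m : ℕ, ∀ g ∈ I ^ (n * (b + c)), ∀ h ∈ I ^ (m * (b + c)), Φ (n + m) (g * h) = Φ n g * Φ m h) ∧
        (∀ a : A, Φ 0 a = MvPolynomial.C a) ∧
        (∀ (g : A) (hg : g ∈ I ^ (b + c)), Φ 1 g =
          ∑ j, MvPolynomial.C (φ j ⟨g, Ideal.pow_le_pow_right (Nat.le_add_left c b) hg⟩) * MvPolynomial.X j)) →
      ∀ n : ℕ, ∃ ΦF : (Formal2.idealPowMod I (n * (b + c)) (limit G)) ⟶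
          ⨁ (fun _ : ↥(Finset.Nat.antidiagonalTuple r n) ↦ (limit G)),
        (∀ g ∈ I ^ (n * (b + c)), ∀ γ : (limit G) ⟶ (Formal2.idealPowMod I (n * (b + c)) (limit G)),
          γ ≫ Formal2.idealPowModι I (n * (b + c)) (limit G) = Formal.smulMod A (limit G) g →
          γ ≫ ΦF = biproduct.lift (fun e : ↥(Finset.Nat.antidiagonalTuple r n) ↦
            Formal.smulMod A (limit G) (MvPolynomial.coeff (Finsupp.equivFunOnFinite.symm e.1) (Φ n g)))) ∧
        ΦF ≫ biproduct.desc (fun e : ↥(Finset.Nat.antidiagonalTuple r n) ↦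
            Formal.smulMod A (limit G) (∏ j, f j ^ (e.1 j))) = Formal2.idealPowModι I (n * (b + c)) (limit G) ∧
        (∀ ΦF' : (Formal2.idealPowMod I (n * (b + c)) (limit G)) ⟶
            ⨁ (fun _ : ↥(Finset.Nat.antidiagonalTuple r n) ↦ (limit G)),
          (∀ g ∈ I ^ (n * (b + c)), ∀ γ : (limit G) ⟶ (Formal2.idealPowMod I (n * (b + c)) (limit G)),
            γ ≫ Formal2.idealPowModι I (n * (b + c)) (limit G) = Formal.smulMod A (limit G) g →
            γ ≫ ΦF' = biproduct.lift (fun e : ↥(Finset.Nat.antidiagonalTuple r n) ↦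
              Formal.smulMod A (limit G) (MvPolynomial.coeff (Finsupp.equivFunOnFinite.symm e.1) (Φ n g)))) →
          ΦF' = ΦF) := by
  obtain ⟨b, hb, hzero⟩ := exists_hom_bound hG
  refine ⟨b, fun Φ ⟨hadd, hsmul, hhom, hmul, h0, h1⟩ n => ?_⟩
  obtain hgr := graded_mem_and_eval φ hφ Φ hadd hmul h0 h1 n
  let F := limit G
  let m := n * (b + c)
  let s := Formal.smulFamily (I ^ m) F
  let e : (∐ fun _ : ↥(I ^ m) => F) ⟶ Formal2.idealPowMod I m F := kernel.lift _ s (cokernel.condition _)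
  haveI : Epi e := inferInstanceAs (Epi (Abelian.factorThruImage s))
  have hes : e ≫ Formal2.idealPowModι I m F = s := kernel.lift_ι _ _ _
  have hsι : ∀ a : ↥(I ^ m), Sigma.ι (fun _ : ↥(I ^ m) => F) a ≫ s = Formal.smulMod A F (a : A) := fun a =>
    Sigma.ι_desc (fun a : ↥(I ^ m) => Formal.smulMod A F (a : A)) a
  let co : ↥(Finset.Nat.antidiagonalTuple r n) → A → A := fun t g =>
    MvPolynomial.coeff (Finsupp.equivFunOnFinite.symm t.1) (Φ n g)
  let D : (∐ fun _ : ↥(I ^ m) => F) ⟶ ⨁ (fun _ : ↥(Finset.Nat.antidiagonalTuple r n) ↦ F) :=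
    Sigma.desc fun a => biproduct.lift fun t => Formal.smulMod A F (co t a)
  have hD : kernel.ι e ≫ D = 0 := by
    refine biproduct.hom_ext _ _ fun t => ?_
    rw [zero_comp, Category.assoc]
    have hs : kernel.ι e ≫ s = 0 := by rw [← hes, kernel.condition_assoc, zero_comp]
    rcases Nat.eq_zero_or_pos n with rfl | hn
    · have : D ≫ biproduct.π _ t = s := Sigma.hom_ext _ _ fun a => by
        rw [Sigma.ι_desc_assoc, biproduct.lift_π]
        refine Eq.trans ?_ (hsι a).symm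
        refine congrArg (Formal.smulMod A F) ?_
        have ht : t.1 = 0 := funext fun j => by
          have := Finset.Nat.mem_antidiagonalTuple.1 t.2
          simpa using (Finset.sum_eq_zero_iff.1 this) j (Finset.mem_univ j)
        simp only [co, h0]
        rw [ht, show Finsupp.equivFunOnFinite.symm (0 : Fin r → ℕ) = 0 from Finsupp.ext fun _ => rfl,
          MvPolynomial.coeff_zero_C]
      rw [this, hs]
    refine hzero _ m ?_ fun h hh => ?_
    · rw [Category.assoc]
      suffices D ≫ biproduct.π _ t ≫ Formal.modPowπ I b F = 0 by rw [Category.assoc, this, comp_zero]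
      refine Sigma.hom_ext _ _ fun a => ?_
      rw [Sigma.ι_desc_assoc, biproduct.lift_π_assoc, comp_zero]
      refine (IsQuot.modPowπ I b F).comp_eq_zero _ (Ideal.pow_le_pow_right ?_
        (MvPolynomial.mem_map_C_iff.1 (hgr a a.2).1 _))
      exact Nat.le_mul_of_pos_left b hn
    · have key : (D ≫ biproduct.π _ t) ≫ Formal.smulMod A F h = s ≫ Formal.smulMod A F (co t h) := by
        refine Sigma.hom_ext _ _ fun a => ?_
        rw [Category.assoc, Sigma.ι_desc_assoc, biproduct.lift_π_assoc, reassoc_of% (hsι a),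
          ← smulMod_mul, ← smulMod_mul]
        refine congrArg (Formal.smulMod A F) ?_
        have e1 : Φ n (h * a) = h • Φ n a := hsmul n h a a.2
        have e2 : Φ n ((a : A) * h) = (a : A) • Φ n h := hsmul n a h hh
        rw [mul_comm (a : A) h] at e2
        have e3 := congrArg (MvPolynomial.coeff (Finsupp.equivFunOnFinite.symm t.1)) (e1.symm.trans e2)
        simp only [MvPolynomial.coeff_smul, smul_eq_mul] at e3
        exact e3.trans (mul_comm _ _)
      rw [Category.assoc, key, reassoc_of% hs, zero_comp]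
  let ΦF := Abelian.epiDesc e D hD
  have hΦ : e ≫ ΦF = D := Abelian.comp_epiDesc e D hD
  have hγ : ∀ g (hg : g ∈ I ^ m) (γ : F ⟶ Formal2.idealPowMod I m F),
      γ ≫ Formal2.idealPowModι I m F = Formal.smulMod A F g →
        γ = Sigma.ι (fun _ : ↥(I ^ m) => F) ⟨g, hg⟩ ≫ e := fun g hg γ h => by
    refine (cancel_mono (Formal2.idealPowModι I m F)).1 ?_
    rw [h, Category.assoc, hes]
    exact (Sigma.ι_desc (fun a : ↥(I ^ m) => Formal.smulMod A F (a : A)) ⟨g, hg⟩).symm
  refine ⟨ΦF, fun g hg γ h => ?_, ?_, fun ΦF' h' => ?_⟩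
  · rw [hγ g hg γ h, Category.assoc, hΦ]
    exact Sigma.ι_desc _ _
  · refine (cancel_epi e).1 ?_
    rw [← Category.assoc, hΦ, hes]
    refine Sigma.hom_ext _ _ fun a => ?_
    rw [Sigma.ι_desc_assoc, biproduct.lift_desc]
    refine Eq.trans ?_ (hsι a).symm
    refine (Finset.sum_congr rfl fun t _ => (smulMod_mul (M := F) _ _).symm).trans ?_
    rw [show ∀ (ι : Type) [Fintype ι] (w : ι → A), ∑ i, Formal.smulMod A F (w i) = Formal.smulMod A F (∑ i, w i) from fun ι _ w => (map_sum (AddMonoidHom.mk' (fun a => Formal.smulMod A F a) fun a b => smulMod_add a b) w Finset.univ).symm]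
    exact congrArg (Formal.smulMod A F) ((sum_antidiagonalTuple_eq_eval (hhom n a a.2)).trans (hgr a a.2).2)
  · refine (cancel_epi e).1 (hΦ.symm ▸ Sigma.hom_ext _ _ fun a => ?_)
    rw [← Category.assoc, Sigma.ι_desc]
    refine h' a.1 a.2 _ ?_
    rw [Category.assoc, hes]
    exact Sigma.ι_desc _ _

end GrothLib.FormalPoly7
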